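import Cfsg.Agent.Lib.SZ.S3F
import Cfsg.Agent.Lib.OO.BG1
import Cfsg.Agent.Lib.OO.BGAB

/-!
# Groups in which 2-subgroups centralize the 3-subgroups they normalize
-/

set_option autoImplicit false
set_option linter.unusedSectionVars false

namespace Cfsg.Agent.C3

open Subgroup Cfsg.Agent.Coprime Cfsg.Agent.OO Cfsg.Agent.SZ
open scoped Pointwise commutatorElement

universe u

variable {G : Type u} [Group G] {H K N P Q T W : Subgroup G}

/-- no 2-subgroup of `H` acts nontrivially on a 3-subgroup of `H` which it normalizes -/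
def Good (H : Subgroup G) : Prop := ∀ W T : Subgroup G, W ≤ H → T ≤ H → IsPGroup 3 W →
  IsPGroup 2 T → T ≤ 𝐍(W) → T ≤ 𝐂(W)

theorem Good.mono (h : Good H) (hK : K ≤ H) : Good K :=
  fun W T a b => h W T (a.trans hK) (b.trans hK)

theorem Good.conj (h : Good H) (g : G) : Good (g •ᶜ H) := fun W T a b c d e => by
  have h1 := h (g⁻¹ •ᶜ W) (g⁻¹ •ᶜ T) (le_conj_iff_inv_conj_le.1 a)
    (le_conj_iff_inv_conj_le.1 b) (isPGroup_conj.2 c) (isPGroup_conj.2 d)
    (by rw [norm_conj]; exact conj_le_conj_iff.2 e)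
  rwa [cent_conj, conj_le_conj_iff] at h1

variable [Finite G]

theorem good_of_odd (h : Odd ♯H) : Good H := fun W T _ b _ d _ => by
  obtain rfl : T = ⊥ := by_contra fun e =>
    h.not_two_dvd_nat ((dvd_card_of_isPGroup d e).trans (card_dvd b))
  exact bot_le

theorem good_of_not_dvd (h : ¬ 3 ∣ ♯H) : Good H := fun W T a _ c _ _ => by
  obtain rfl : W = ⊥ := by_contra fun e => h ((dvd_card_of_isPGroup c e).trans (card_dvd a))
  exact le_cent_symm bot_le

theorem good_of_closed (hT : T ⊴ H) (hS : Syl 2 T H) : Good H := fun W R a b c d e =>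
  commutator_eq_bot_iff.1 (eq_bot_iff.2 ((inf_eq_bot_of_coprime_card
    (coprime_of_isPGroup_ne hS.isPGroup c (by decide))).le.trans' (le_inf
      ((commutator_mono (hS.le_of_normal_syl hT.norm b d) le_rfl).trans
        (commutator_le_left' (a.trans hT.norm))) (commutator_le_right' e))))

theorem Good.quo (h : Good H) (hH : H ≤ 𝐍(N)) : Good (H ⁒ N) := fun W T a b c d e => by
  have h0 : (H ⊓ quoPre N W) ⊴ (H ⊓ quoPre N (W ⊔ T)) :=
    ⟨inf_le_inf_left _ (quoPre_mono le_sup_left), le_norm_inf (le_norm_of_le inf_le_left)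
      (inf_le_right.trans (quoPre_le_norm_quoPre (sup_le (le_norm_self W) e)))⟩
  obtain ⟨V, hV⟩ := exists_syl 3 (H ⊓ quoPre N W)
  have h1 : (H ⊓ quoPre N W) ⁒ N = W := by rw [inf_quoPre_quo, inf_eq_right.2 a]
  have h2 : V ⁒ N = W := (h1 ▸ hV.quo (inf_le_left.trans hH)).eq_self c
  have h3 := ((hV.frattini h0).quo (inf_le_left.trans hH)).sup_eq
  rw [h1, inf_quoPre_quo, inf_eq_right.2 (sup_le a b), sup_eq_right.2 (h2.ge.trans (quo_mono N
    (le_inf (hV.le.trans h0.le) (le_norm_self V))))] at h3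
  obtain ⟨R, r1, -, r2, rfl⟩ := exists_isPGroup_quo_eq (le_sup_right.trans h3.ge) d
  exact h2 ▸ quo_le_cent N (h V R (hV.le.trans inf_le_left) (r1.trans (inf_le_left.trans inf_le_left))
    hV.isPGroup r2 (r1.trans inf_le_right))

theorem Good.commutator_le (h : Good (H ⁒ N)) (hH : H ≤ 𝐍(N)) (a : W ≤ H) (b : T ≤ H)
    (c : IsPGroup 3 W) (d : IsPGroup 2 T) (e : T ≤ 𝐍(W)) : ⁅T, W⁆ ≤ N :=
  (quo_le_cent_iff (b.trans hH) (a.trans hH)).1 (h _ _ (quo_mono N a) (quo_mono N b)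
    (isPGroup_quo c N) (isPGroup_quo d N) (quo_le_norm N e))

theorem good_of_quo (hH : H ≤ 𝐍(N)) (h3 : PiGrp ({3} : Set ℕ)ᶜ N) (h : Good (H ⁒ N)) : Good H :=
  fun W T a b c d e => commutator_eq_bot_iff.1 (eq_bot_iff.2 ((inf_eq_bot_of_coprime_card
    (coprime_of_isPGroup c h3)).le.trans' (le_inf (commutator_le_right' e)
      (h.commutator_le hH a b c d e))))

theorem Good.not_real (h : Good H) {y t : G} (hy : y ∈ H) (ht : t ∈ H) (y3 : orderOf y = 3)
    {k : ℕ} (t2 : orderOf t = 2 ^ k) : t * y * t⁻¹ ≠ y⁻¹ := fun e => by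
  have h1 := h (zpowers y) (zpowers t) (zpowers_le.2 hy) (zpowers_le.2 ht)
    (isPGroup_of_card_prime_pow (n := 1) (by rw [Nat.card_zpowers, y3, pow_one]))
    (isPGroup_of_card_prime_pow (n := k) (by rw [Nat.card_zpowers, t2]))
    (zpowers_le.2 (mem_norm_of_conj_le (by
      rw [conj_zpowers, zpowers_le, e]; exact inv_mem (mem_zpowers y))))
  have h2 : t * y = y * t := (mem_cent_iff.1 (h1 (mem_zpowers t)) y (mem_zpowers y)).symm
  rw [h2, mul_inv_cancel_right] at e
  have h3 : orderOf y ∣ 2 := orderOf_dvd_of_pow_eq_one (by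
    rw [sq]; nth_rw 1 [e]; exact inv_mul_cancel y)
  rw [y3] at h3
  omega

theorem Good.s3f_sub (h : Good H) : S3F H := s3f_iff.2 fun e =>
  let ⟨d, t, h1, ⟨_, h2⟩, h3⟩ := Core.exists_inverted_of_involves e
  h.not_real d.2 t.2 (by rwa [Subgroup.orderOf_coe]) (by rwa [Subgroup.orderOf_coe])
    (congrArg Subtype.val h3)

theorem Good.s3f (h : Good (⊤ : Subgroup G)) : S3F G := s3f_iff.2 fun e =>
  let ⟨d, t, h1, ⟨_, h2⟩, h3⟩ := Core.exists_inverted_of_involves e
  h.not_real (mem_top d) (mem_top t) h1 h2 h3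

end Cfsg.Agent.C3
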