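import Cfsg.Agent.S3857
import Cfsg.Agent.Lib.Frob.QuatSquare
import Cfsg.Agent.Lib.Core.Subnormal
import Cfsg.Agent.Lib.OO.Final

/-!
# The Gruenberg-Kegel theorem, modulo the almost simple case
-/

set_option autoImplicit false

namespace Cfsg.Agent.GK

open Subgroup Cfsg.Agent.S3857

universe u

variable {X : Type u} [Group X] [Finite X] {A : Set ℕ}

theorem not_comm (h : NoEdge A X) {x y : X} {a b : ℕ} (ha : a.Prime) (hb : b.Prime) (haA : a ∈ A)
    (hbA : b ∉ A) (hx : a ∣ orderOf x) (hy : b ∣ orderOf y) : ¬ Commute x y := fun hc =>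
  h a haA b hbA ha hb (Frob.exists_orderOf_eq_mul_of_commute hc
    ((Nat.coprime_primes ha hb).2 fun e => hbA (e ▸ haA)) hx hy)

/-- An element of prime order in `A` acts fixed point freely on an `A'`-subgroup. -/
theorem fpf (h : NoEdge A X) {B : Subgroup X} (hB : ∀ p : ℕ, p.Prime → p ∣ Nat.card B → p ∉ A)
    {t : X} {a : ℕ} (ha : a.Prime) (haA : a ∈ A) (ht : a ∣ orderOf t) :
    ∀ k ∈ B, t * k = k * t → k = 1 := fun k hk e => by
  by_contra k1
  obtain ⟨q, hq, hqk⟩ := Nat.exists_prime_and_dvd (mt orderOf_eq_one_iff.1 k1)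
  exact not_comm h ha hq haA (hB q hq (hqk.trans (B.orderOf_dvd_natCard hk))) ht hqk e

theorem index_of_even (h : NoEdge A X) (h2 : 2 ∈ A) (he : 2 ∣ Nat.card X) (hB : piCore Aᶜ X ≠ ⊥) :
    ∀ p : ℕ, p.Prime → p ∣ (piCore Aᶜ X).index → p ∈ A := by
  have := Fact.mk Nat.prime_two
  set B := piCore Aᶜ X with hBd
  have hBA : ∀ p : ℕ, p.Prime → p ∣ Nat.card B → p ∉ A := Core.mem_of_dvd_card_piCore (G := X) Aᶜ
  obtain ⟨t, ht⟩ := exists_prime_orderOf_dvd_card' 2 he
  have hC : centralizer (B : Set X) ≤ B := Core.le_piCore fun p hp hd hpA => by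
    have := Fact.mk hp
    obtain ⟨x, hx, ho⟩ := Core.exists_mem_orderOf_eq_of_dvd_card hd
    obtain ⟨k, hk, k1⟩ := (B.bot_or_exists_ne_one).resolve_left hB
    exact k1 (fpf h hBA hp hpA ho.symm.dvd k hk (hx k hk).symm)
  have hn : ∀ z : X, z ∈ normalizer (B : Set X) := fun z => le_normalizer_of_normal (mem_top z)
  have inv : ∀ s : X, orderOf s = 2 → ∀ k ∈ B, s * k * s⁻¹ = k⁻¹ := fun s hs k hk =>
    Frob.conj_eq_inv_of_fpf (by rw [← pow_two, ← hs, pow_orderOf_eq_one]) (hn s)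
      (fpf h hBA Nat.prime_two h2 hs.symm.dvd) hk
  intro p hp hd
  by_contra hpA
  have := Fact.mk hp
  obtain ⟨g, hg⟩ := exists_prime_orderOf_dvd_card' (G := X ⧸ B) p hd
  obtain ⟨g, rfl⟩ := QuotientGroup.mk_surjective g
  have h1 : g * t * g⁻¹ * t⁻¹ ∈ B := hC fun k hk => by
    have e1 := inv (g * t * g⁻¹) (by rw [← ht]; simpa using (MulAut.conj g).orderOf_eq t) _
      (B.inv_mem hk)
    have e2 := inv t ht k⁻¹ (B.inv_mem hk)
    rw [inv_inv] at e1 e2
    calc k * (g * t * g⁻¹ * t⁻¹) = (g * t * g⁻¹ * k⁻¹ * (g * t * g⁻¹)⁻¹) * (g * t * g⁻¹ * t⁻¹) := by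
          rw [e1]
      _ = g * t * g⁻¹ * t⁻¹ * (t * k⁻¹ * t⁻¹) := by group
      _ = _ := by rw [e2]
  obtain ⟨y, hy, e⟩ := Frob.exists_conj_of_fpf (hn t)
    (fpf h hBA Nat.prime_two h2 ht.symm.dvd) h1
  have h3 : ((y⁻¹ * g : X) : X ⧸ B) = g := by
    rw [QuotientGroup.mk_mul, (QuotientGroup.eq_one_iff _).2 (B.inv_mem hy), one_mul]
  refine not_comm h Nat.prime_two hp h2 hpA ht.symm.dvd (y := y⁻¹ * g)
    ((hg ▸ h3 ▸ dvd_rfl : p ∣ orderOf ((y⁻¹ * g : X) : X ⧸ B)).trans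
      (orderOf_map_dvd (QuotientGroup.mk' B) _)) ?_
  change t * (y⁻¹ * g) = y⁻¹ * g * t
  calc t * (y⁻¹ * g) = y⁻¹ * (y * t * y⁻¹) * g := by group
    _ = _ := by rw [e]; group

theorem exists_both (h1 : piCore A X = ⊥) (h2 : piCore Aᶜ X = ⊥) {L : Subgroup X}
    (hL : L.IsSubnormal) (h0 : L ≠ ⊥) : (∃ x ∈ L, (orderOf x).Prime ∧ orderOf x ∈ A) ∧
      ∃ y ∈ L, (orderOf y).Prime ∧ orderOf y ∉ A := by
  constructor
  · by_contra! hc
    refine h0 (le_bot_iff.1 (h2 ▸ Core.le_piCore_of_isSubnormal hL fun p hp hd => ?_))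
    have := Fact.mk hp
    obtain ⟨x, hx, ho⟩ := Core.exists_mem_orderOf_eq_of_dvd_card hd
    exact ho ▸ hc x hx (ho ▸ hp)
  · by_contra! hc
    refine h0 (le_bot_iff.1 (h1 ▸ Core.le_piCore_of_isSubnormal hL fun p hp hd => ?_))
    have := Fact.mk hp
    obtain ⟨x, hx, ho⟩ := Core.exists_mem_orderOf_eq_of_dvd_card hd
    exact ho ▸ hc x hx (ho ▸ hp)

theorem simple_of (h : NoEdge A X) (h1 : piCore A X = ⊥) (h2 : piCore Aᶜ X = ⊥) {S : Subgroup X}
    (hS : Core.IsMinNormal S) : IsSimpleGroup S ∧ ¬ IsMulCommutative S := by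
  have hn := hS.normal
  have hnt : Nontrivial S := (nontrivial_iff_ne_bot S).2 hS.ne_bot
  constructor
  · refine ⟨fun N hN => (em (N = ⊥)).imp_right fun h0 => ?_⟩
    obtain ⟨L, hL, hle⟩ := Core.exists_isMinNormal_le h0
    have hLn := hL.normal
    have hsub : (L.map S.subtype).IsSubnormal :=
      Subgroup.IsSubnormal.trans' (H := L) (K := S) hLn.isSubnormal hn.isSubnormal
    have hb : L.map S.subtype ≠ ⊥ := by
      rw [Ne, map_eq_bot_iff_of_injective _ S.subtype_injective]; exact hL.ne_bot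
    obtain ⟨⟨_, ⟨x, hx, rfl⟩, hp, hA⟩, _, ⟨y, hy, rfl⟩, hq, hB⟩ := exists_both h1 h2 hsub hb
    have key : ∀ g : X, L.map (MulAut.conjNormal g : MulAut S).toMonoidHom = L := fun g => by
      by_contra hne
      have h3 := (hL.map_equiv (MulAut.conjNormal g)).le_centralizer_of_ne hL hne
        ⟨y, hy, rfl⟩ x hx
      refine not_comm h hp hq hA hB dvd_rfl (y := g * y * g⁻¹)
        (by simpa using ((MulAut.conj g).orderOf_eq (y : X)).symm.dvd) ?_
      simpa [commute_iff_eq] using congrArg Subtype.val h3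
    have hN' : (L.map S.subtype).Normal := ⟨by
      rintro _ ⟨z, hz, rfl⟩ g
      have : (MulAut.conjNormal g : MulAut S) z ∈ L := key g ▸ ⟨z, hz, rfl⟩
      exact ⟨_, this, by simp⟩⟩
    have h4 := hS.eq_of_le (map_subtype_le L) hb
    rw [eq_top_iff]
    intro z _
    obtain ⟨w, hw, e⟩ : (z : X) ∈ L.map S.subtype := h4.symm ▸ z.2
    exact hle (Subtype.ext e ▸ hw)
  · intro hc
    obtain ⟨⟨x, hx, hp, hA⟩, y, hy, hq, hB⟩ := exists_both h1 h2 hn.isSubnormal hS.ne_bot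
    exact not_comm h hp hq hA hB dvd_rfl dvd_rfl
      (Core.mul_comm_of_mem_of_isMulCommutative hc hx hy)

/-- The almost simple case. -/
def Gap : Prop := ∀ (X : Type u) [Group X] [Finite X] (A : Set ℕ) (S : Subgroup X) [S.Normal],
  IsSimpleGroup S → ¬ IsMulCommutative S → NoEdge A X → 2 ∈ A →
    ∀ r : ℕ, r.Prime → r ∣ S.index → r ∈ A

noncomputable def quotEquiv (H K : Subgroup X) [H.Normal] :
    K ⧸ H.subgroupOf K ≃* K.map (QuotientGroup.mk' H) := by
  refine (QuotientGroup.quotientMulEquivOfEq ?_).trans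
    (QuotientGroup.quotientKerEquivOfSurjective _ ((QuotientGroup.mk' H).subgroupMap_surjective K))
  ext x
  rw [MonoidHom.mem_ker, Subtype.ext_iff]
  exact (QuotientGroup.eq_one_iff (N := H) (x : X)).symm

theorem main (gap : Gap.{u}) (hA : NoEdge A X) (h2 : 2 ∈ A)
    (hb : ∃ b ∉ A, b.Prime ∧ b ∣ Nat.card X) (hns : ¬ Group.IsSolvable X) :
    (∃ C : Subgroup X, Cfsg.IsFrobeniusComplement C) ∨
    (∃ (H K : Subgroup X) (_ : H.Normal), K.Normal ∧ H < K ∧
      (∃ C : Subgroup ↥K, Cfsg.IsFrobeniusComplement C ∧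
        Cfsg.frobeniusKernel C = (H.subgroupOf K : Set ↥K)) ∧
      (∃ C : Subgroup (X ⧸ H), Cfsg.IsFrobeniusComplement C ∧
        Cfsg.frobeniusKernel C = (K.map (QuotientGroup.mk' H) : Set (X ⧸ H)))) ∨
    (∃ (N M : Subgroup X) (_ : N.Normal) (_ : M.Normal), N ≤ M ∧
      (∀ p : ℕ, p.Prime → p ∣ Nat.card ↥N → p ∈ A) ∧
      (∀ p : ℕ, p.Prime → p ∣ Nat.card (X ⧸ M) → p ∈ A) ∧
      IsSimpleGroup (↥M ⧸ N.subgroupOf M) ∧ ¬ IsMulCommutative (↥M ⧸ N.subgroupOf M)) := by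
  set H := piCore A X with hH
  have hHn : H.Normal := inferInstance
  have hHA := Core.mem_of_dvd_card_piCore (G := X) A
  set π := QuotientGroup.mk' H with hπ
  have hs : Function.Surjective π := QuotientGroup.mk'_surjective H
  have hnil : Group.IsNilpotent H := by
    obtain ⟨b, hbA, hp, hd⟩ := hb
    have := Fact.mk hp
    obtain ⟨t, ht⟩ := exists_prime_orderOf_dvd_card' b hd
    exact Transfer.isNilpotent_of_fixedPointFree hp (le_normalizer_of_normal (mem_top t))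
      (by rw [← ht, pow_orderOf_eq_one]) fun k hk e =>
        fpf hA.compl (fun p hp hd => not_not.2 (hHA p hp hd)) hp hbA ht.symm.dvd k hk e.symm
  have he : 2 ∣ Nat.card (X ⧸ H) := by
    by_contra ho
    have := OO.Feit_Thompson (G := X ⧸ H) (Nat.odd_iff.2 (by omega))
    exact hns (Group.isSolvable_of_ker_le_range H.subtype π (by simp [hπ]))
  have hq0 : piCore A (X ⧸ H) = ⊥ := Core.piCore_quotient_piCore
  have hAq := hA.quotient H
  by_cases hB0 : piCore Aᶜ (X ⧸ H) = ⊥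
  · have : Nontrivial (X ⧸ H) := Finite.one_lt_card_iff_nontrivial.1
      (Nat.le_of_dvd Nat.card_pos he)
    obtain ⟨S, hS⟩ := Core.exists_isMinNormal (G := X ⧸ H)
    have hSn := hS.normal
    obtain ⟨h3, h4⟩ := simple_of hAq hq0 hB0 hS
    have e := quotEquiv H (S.comap π)
    rw [map_comap_eq_self_of_surjective hs] at e
    refine .inr (.inr ⟨H, S.comap π, hHn, hSn.comap π, Core.le_comap_mk H S, hHA,
      fun p hp hd => gap _ A S h3 h4 hAq h2 p hp ?_, e.isSimpleGroup, fun hc => h4 ⟨⟨fun a b => ?_⟩⟩⟩)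
    · rwa [← index_eq_card, index_comap_of_surjective _ hs] at hd
    · rw [← e.symm.injective.eq_iff, map_mul, map_mul]
      exact hc.is_comm.comm _ _
  have hi := index_of_even hAq h2 he hB0
  set B := piCore Aᶜ (X ⧸ H) with hB
  have hBA := Core.mem_of_dvd_card_piCore (G := X ⧸ H) Aᶜ
  have hBt : B ≠ ⊤ := fun e => Core.piCore_eq_top_iff.1 e 2 Nat.prime_two he h2
  set K := B.comap π with hK
  have hKn : K.Normal := Subgroup.Normal.comap inferInstance π
  have hKB : K.map π = B := map_comap_eq_self_of_surjective hs B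
  have hle : H ≤ K := Core.le_comap_mk H B
  have hlt : H < K := lt_of_le_of_ne hle fun e => hB0 (by
    rw [← hKB, ← e]; exact (Core.map_mk_eq_bot_iff H H).2 le_rfl)
  have hrel : (H.subgroupOf K).index = Nat.card B := by
    rw [← hKB]; exact (Core.card_map_mk_eq_relIndex H K).symm
  by_cases h0 : H = ⊥
  · left
    obtain ⟨D, hD, hDt⟩ := hA.compl.frob (N := K) hlt.ne_bot
      (fun e => hBt (by rw [← hKB, e]; exact map_top_of_surjective π hs))
      (by
        rw [show H.subgroupOf K = ⊥ from (congrArg (·.subgroupOf K) h0).trans (bot_subgroupOf K),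
          index_bot] at hrel
        rwa [hrel])
      (by rw [index_comap_of_surjective _ hs]; exact fun p hp hd => not_not.2 (hi p hp hd))
    exact ⟨D, hD.isFrobeniusComplement hDt⟩
  obtain ⟨C, hC, hCt⟩ := (hA.subgroup K).frob (N := H.subgroupOf K)
    (by rw [Ne, subgroupOf_eq_bot, disjoint_iff, inf_eq_left.2 hle]; exact h0)
    (by rw [Ne, subgroupOf_eq_top]; exact hlt.not_ge)
    (by rwa [Core.card_subgroupOf_of_le hle]) (by rwa [hrel])
  obtain ⟨D, hD, hDt⟩ := hAq.compl.frob hB0 hBt hBA fun p hp hd => not_not.2 (hi p hp hd)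
  refine .inr (.inl ⟨H, K, hHn, hKn, hlt,
    ⟨C, hC.isFrobeniusComplement hCt, hC.frobeniusKernel_eq hCt⟩, ?_⟩)
  rw [hKB]
  exact ⟨D, hD.isFrobeniusComplement hDt, hD.frobeniusKernel_eq hDt⟩

end Cfsg.Agent.GK
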