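import Cfsg.Agent.Lib.C3.Def
import Cfsg.Agent.Lib.I2.SE3a
import Cfsg.Agent.Lib.R4.S3C
import Cfsg.Agent.Lib.R4.Fin45

/-!
# The normalizer of `Z(L(P))`, `P` a Sylow 3-subgroup, controls odd automizers of 3-subgroups
-/

set_option autoImplicit false
set_option linter.unusedSectionVars false

namespace Cfsg.Agent.C3

open Subgroup Cfsg.Agent.Coprime Cfsg.Agent.OO Cfsg.Agent.SZ
open scoped Pointwise commutatorElement

universe u

variable {G : Type u} [Group G] [Finite G] {A B H K N P Q T W X Y : Subgroup G}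

/-- abelian Sylow 2-subgroups -/
def A2 (H : Subgroup G) : Prop := ∀ T ≤ H, IsPGroup 2 T → Ab T

theorem A2.mono (h : A2 H) (hK : K ≤ H) : A2 K := fun T a => h T (a.trans hK)

theorem A2.quo (h : A2 H) (N : Subgroup G) : A2 (H ⁒ N) := fun T a b => by
  obtain ⟨R, r1, -, r2, rfl⟩ := exists_isPGroup_quo_eq a b
  exact ab_quo (h R r1 r2) N

theorem A2.der_le (h : A2 (H ⁒ N)) (hH : H ≤ 𝐍(N)) (a : T ≤ H) (b : IsPGroup 2 T) : der T ≤ N :=
  (ab_quo_iff (a.trans hH)).1 (h _ (quo_mono N a) (isPGroup_quo b N))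

theorem A2.conj (h : A2 H) (g : G) : A2 (g •ᶜ H) := fun T a b =>
  ab_conj.1 (h (g⁻¹ •ᶜ T) (le_conj_iff_inv_conj_le.1 a) (isPGroup_conj.2 b))

theorem A2.sup (hA : A2 A) (hB : A2 B) (h1 : A ≤ 𝐍(B)) (h2 : B ≤ 𝐍(A)) (h : A ⊓ B = ⊥) :
    A2 (A ⊔ B) := fun T a b => ab_iff_der.2 (eq_bot_iff.2 (h.le.trans' (le_inf
  (A2.der_le (by rw [quo_self_sup h2]; exact hB.quo A) (sup_le (le_norm_self A) h2) a b)
  (A2.der_le (by rw [quo_sup_self h1]; exact hA.quo B) (sup_le h1 (le_norm_self B)) a b))))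

theorem a2_of_ab (h : Ab H) : A2 H := fun _ a _ => ab_of_le h a

theorem a2_of_smp (hs : GW.Smp Y) (hg : Good Y) (h3 : 3 ∣ ♯Y) : A2 Y := by
  by_cases ha : Ab Y
  · exact a2_of_ab ha
  intro T a b
  have := hs.isSimpleGroup fun e => ha (e ▸ ab_bot)
  obtain ⟨S, hS, hle⟩ := exists_syl_ge a b
  obtain ⟨W, k, n, hf⟩ | ⟨k, f, r, c, hf⟩ := R4.s3c.kf ha hg.s3f_sub (Wal.syl_subgroupOf hS)
  · exact absurd (by rwa [card_top]) hf.not_three
  · have h1 := ab_map (ab_iff_le_cent.2 hf.cent) Y.subtype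
    rw [map_subgroupOf_eq_of_le hS.le] at h1
    exact ab_of_le h1 hle

theorem a2_of_min (h : IsMinNormalBy Y X) (hle : Y ≤ X) (hg : Good Y) (h3 : 3 ∣ ♯Y) : A2 Y := by
  induction Y using Core.subgroup_induction_lt generalizing X with
  | h Y ih =>
  obtain ⟨V, hV, hVY⟩ := exists_minNormalBy h.ne_bot (le_norm_self Y)
  rcases hVY.lt_or_eq with e | rfl
  swap
  · exact a2_of_smp (fun N hN => hV.eq_bot_or_eq hN.le hN.norm) hg h3
  have h0 := (h.eq_of_ne_bot (Core.invClosure_le hVY h.norm) (Core.le_normalizer_invClosure V X)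
      fun e => hV.ne_bot (eq_bot_iff.2 (e ▸ Core.le_invClosure V X))).ge
  have h2 : ∀ l ∈ X, IsMinNormalBy (l •ᶜ V) Y := fun l hl =>
    conj_eq_of_mem_norm (h.norm hl) ▸ hV.conj l
  have h4 : ∀ l ∈ X, l •ᶜ V ≤ Y := fun l hl => conj_le_of_mem_norm (h.norm hl) hVY
  by_cases v3 : 3 ∣ ♯V
  · have h1 := ih V e hV hVY (hg.mono hVY) v3
    obtain ⟨U, ⟨k1, k2⟩, k3⟩ := Set.exists_max_image {U | U ⊴ Y ∧ A2 U} (fun U => ♯U) (Set.toFinite _)
      ⟨⊥, .bot Y, a2_of_ab ab_bot⟩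
    refine k2.mono (h0.trans (Core.invClosure_le_of_forall fun l hl => ?_))
    refine ((h2 l hl).inf_eq_bot_or_le k1.norm).elim (fun e => ?_) id
    exact le_sup_right.trans (eq_of_le_of_card_le le_sup_left (k3 _ ⟨k1.sup ⟨h4 l hl, (h2 l hl).norm⟩,
      k2.sup (h1.conj l) (k1.le.trans (h2 l hl).norm) ((h4 l hl).trans k1.norm)
        (inf_comm U _ ▸ e)⟩)).ge
  · refine absurd (h3.trans (card_dvd (h0.trans (Core.invClosure_le_of_forall fun l hl => ?_))))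
      (not_dvd_Op' (p := 3) Y)
    exact le_Opi ⟨h4 l hl, (h2 l hl).norm⟩ ((piGrp_compl_singleton Nat.prime_three).2
      (by rwa [← conj_eq_map, card_conj]))

theorem A2.zl (h : A2 H) (hc : H ⊓ 𝐂(Op 3 H) ≤ Op 3 H) (hP : Syl 3 P H) : Zc (puig P) ⊴ H :=
  I2.Se.puig_normal (p := 3) (fun R hR hn a ha b hb qa qb x hx ho => by
    have hL : closure ({a, b} : Set G) ≤ H := (closure_le _).2 (by rintro _ (rfl | rfl) <;> assumption)
    exact Core.commutator_mem_of_quadratic (by decide) (fun Q hQ => h Q (hQ.trans hL))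
      (hL.trans hn.norm) (hL.trans hn.Phi.norm) (der_le_Phi hR) (fun v hv => pow_mem_Phi hR hv)
      qa qb hx ho) hc hP

theorem zl_le (D : Subgroup G) : Zc (puig D) ≤ D := (Zc_le _).trans (puig_le D)

/-- a minimal counterexample -/
structure MC (H P : Subgroup G) : Prop where
  syl : Syl 3 P H
  good : Good (H ⊓ 𝐍(Zc (puig P)))
  bad : ¬ Good H
  ih : ∀ (X : Type u) [Group X] [Finite X] (K R : Subgroup X), ♯K < ♯H → Syl 3 R K →
    Good (K ⊓ 𝐍(Zc (puig R))) → Good K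

namespace MC

variable (h : MC H P)
include h

theorem op' : Op' 3 H = ⊥ := by
  by_contra e
  have hN := Opi_normal ({3} : Set ℕ)ᶜ H
  have hπ := Op'_piGrp 3 H
  have hP := h.syl.le.trans hN.norm
  have hc : ∀ A ≤ P, (♯(Op' 3 H)).Coprime ♯A := fun A hA =>
    (coprime_of_isPGroup (h.syl.isPGroup.to_le hA) hπ).symm
  refine h.bad (good_of_quo hN.norm hπ (h.ih _ _ _ (card_quo_lt hN.le e) (h.syl.quo hN.norm) ?_))
  have h1 : Zc (puig (P ⁒ Op' 3 H)) = Zc (puig P) ⁒ Op' 3 H := by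
    rw [← Pf.quo_puig hP (inf_eq_bot_of_coprime_card (hc P le_rfl))]
    exact (quo_inf_cent_of_norm ((puig_le P).trans hP) (le_norm_self _)
      ((hc _ (puig_le P)).coprime_dvd_left (card_dvd inf_le_left))
      (.inr (sol_of_le h.syl.sol (puig_le P)))).symm
  rw [h1, ← quo_inf_norm_of_coprime hN.le ((zl_le P).trans hP) (hc _ (zl_le P))
    (.inr (sol_of_le h.syl.sol (zl_le P)))]
  exact h.good.quo (inf_le_left.trans hN.norm)

theorem op_ne : Op 3 H ≠ ⊥ := by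
  intro e
  obtain ⟨W, ⟨w1, w2, w3, w4⟩, hmax⟩ := Set.exists_max_image
    {W : Subgroup G | W ≤ H ∧ IsPGroup 3 W ∧ W ≠ ⊥ ∧ ¬ Good (H ⊓ 𝐍(W))}
    (fun W => partn {3} ♯(H ⊓ 𝐍(W) : Subgroup G)) (Set.toFinite _) (by
      by_contra hh
      refine h.bad fun W T a b c d e' => by_contra fun f => hh ⟨W, a, c, ?_, fun g =>
        f (g W T (le_inf a (le_norm_self W)) (le_inf b e') c d e')⟩
      rintro rfl
      exact f (le_cent_symm bot_le))
  obtain ⟨R, hR⟩ := exists_syl 3 (H ⊓ 𝐍(W))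
  have hWR : W ≤ R := hR.le_of_normal ⟨le_inf w1 (le_norm_self W), inf_le_right⟩ w2
  have hlt : H ⊓ 𝐍(W) < H := lt_of_le_of_ne inf_le_left fun f =>
    w3 (eq_bot_iff.2 (e ▸ le_Op ⟨w1, inf_eq_left.1 f⟩ w2))
  have hb : ¬ Good (H ⊓ 𝐍(Zc (puig R))) := fun g =>
    w4 (h.ih _ _ _ (card_lt hlt) hR (g.mono (inf_le_inf_right _ inf_le_left)))
  have hRH := hR.le.trans inf_le_left
  have h1 := hmax (Zc (puig R)) ⟨(zl_le R).trans hRH, hR.isPGroup.to_le (zl_le R), fun f =>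
    w3 (eq_bot_iff.2 (trivg_center_Puig_pgroup hR.isPGroup f ▸ hWR)), hb⟩
  obtain ⟨S, hS, hRS⟩ := exists_syl_ge (le_inf hRH ((le_norm_self R).trans
    (norm_le_norm_center_puig R))) hR.isPGroup
  simp only [← hS.card_eq_partn, ← hR.card_eq_partn] at h1
  obtain rfl := eq_of_le_of_card_le hRS h1
  obtain ⟨g, hg, rfl⟩ := h.syl.exists_conj' (IsSylowIn.of_syl_norm hRH (hS.mono
    (le_inf hRH (le_norm_self R)) (inf_le_inf_left _ (norm_le_norm_center_puig R))))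
  have h2 := h.good.conj g
  rw [conj_inf, conj_eq_of_mem hg, ← norm_conj, ← Zc_conj, ← puig_conj] at h2
  exact hb h2

theorem sub (hK : P ≤ K) (hKH : K ≤ H) (hne : K ≠ H) : Good K :=
  h.ih _ K P (card_lt (lt_of_le_of_ne hKH hne)) (h.syl.mono hK hKH)
    (h.good.mono (inf_le_inf_right _ hKH))

theorem quo (hN : N ⊴ H) (h0 : N ≠ ⊥) (hO : Op 3 (H ⁒ N) = ⊥) : Good (H ⁒ N) := by
  have hP := h.syl.quo hN.norm
  by_cases e : H ⊓ quoPre N 𝐍(Zc (puig (P ⁒ N))) = H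
  · refine good_of_not_dvd (hP.eq_bot_iff.1 (trivg_center_Puig_pgroup hP.isPGroup (eq_bot_iff.2 ?_)))
    exact (le_Op ⟨(zl_le _).trans hP.le, (quo_le_iff_le_quoPre hN.norm).2 (inf_eq_left.1 e)⟩
      (hP.isPGroup.to_le (zl_le _))).trans hO.le
  refine h.ih _ _ _ (card_quo_lt hN.le h0) hP ?_
  rw [← inf_quoPre_quo]
  exact (h.sub (le_inf h.syl.le ((quo_le_iff_le_quoPre (h.syl.le.trans hN.norm)).1
    ((le_norm_self _).trans (norm_le_norm_center_puig _)))) inf_le_left e).quo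
      (inf_le_left.trans hN.norm)

theorem cent_le : H ⊓ 𝐂(Op 3 H) ≤ Op 3 H := by
  have hQ := Op_normal 3 H
  have hQP := Op_le_syl h.syl
  have hC := hQ.cent
  have e : ¬ ∀ T ≤ H, IsPGroup 2 T → T ≤ 𝐂(Op 3 H) := fun e => h.bad fun W T a b c d f =>
    coprime_commGG1P f (coprime_of_isPGroup_ne c d (by decide)) (.inl (sol_of_isPGroup c))
      (commutator_eq_bot_iff'.2 ((e T b d).trans (centralizer_le (by
        rw [Subgroup.commutator_comm]
        exact (h.quo hQ h.op_ne (Op_quo_Op 3 H)).commutator_le hQ.norm a b c d f))))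
  have hS := h.syl.inf_normal hC
  have h1 : H ⊓ 𝐍(P ⊓ (H ⊓ 𝐂(Op 3 H))) = H := by_contra fun f => e fun T a b => by
    have h2 : P ≤ H ⊓ 𝐍(P ⊓ (H ⊓ 𝐂(Op 3 H))) :=
      le_inf h.syl.le (le_norm_inf (le_norm_self P) (h.syl.le.trans hC.norm))
    obtain ⟨R, r1, r2, r3, r4⟩ := exists_isPGroup_quo_eq ((quo_mono _ a).trans
      ((hS.frattini hC).quo_left hC.norm).le) (isPGroup_quo b _)
    have h3 := r1.trans inf_le_left
    rw [quo_eq_bot (le_inf h3 (h.sub h2 inf_le_left f _ R (hQP.trans h2) r1 (Op_isPGroup 3 H) r3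
      (h3.trans hQ.norm))), eq_comm, quo_eq_bot_iff (a.trans hC.norm)] at r4
    exact r4.trans inf_le_right
  have h2 : P ⊓ (H ⊓ 𝐂(Op 3 H)) ≤ Op 3 H :=
    le_Op ⟨hS.le.trans inf_le_left, inf_eq_left.1 h1⟩ hS.isPGroup
  have h3 := (Burnside_normal_complement hS (inf_le_left.trans (inf_le_right.trans
    (centralizer_le h2)))).sup_eq
  rw [show Op' 3 (H ⊓ 𝐂(Op 3 H)) = ⊥ from eq_bot_iff.2 ((Opi_le_of_normal _ hC).trans h.op'.le),
    bot_sup_eq] at h3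
  exact h3.ge.trans h2

theorem odd (hK : P ≤ K) (hKH : K ≤ H) (hne : K ≠ H) : ¬ 2 ∣ ♯K := by
  obtain ⟨T, hT⟩ := exists_syl 2 K
  have h1 := hT.le.trans hKH
  have h2 := (le_inf h1 (h.sub hK hKH hne _ T ((Op_le_syl h.syl).trans hK) hT.le (Op_isPGroup 3 H)
    hT.isPGroup (h1.trans (Op_normal 3 H).norm))).trans h.cent_le
  refine hT.eq_bot_iff.1 ?_
  rw [← inf_eq_left.2 h2]
  exact inf_eq_bot_of_coprime_card (coprime_of_isPGroup_ne hT.isPGroup (Op_isPGroup 3 H) (by decide))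

theorem a2 : A2 H := by
  obtain ⟨D, hD⟩ : ∃ D, D = Op' 2 H := ⟨_, rfl⟩
  have hN : D ⊴ H := hD ▸ Opi_normal _ H
  have hπ : PiGrp ({2} : Set ℕ)ᶜ D := hD ▸ Op'_piGrp 2 H
  have hO : Op' 2 (H ⁒ D) = ⊥ := hD ▸ Opi_quo_Opi _ H
  have hg := h.quo hN (fun e => h.op_ne (eq_bot_iff.2 ((Op_le_Op' (q := 3) (p := 2) (by decide) H).trans
    (hD.ge.trans e.le)))) (eq_bot_iff.2 ((Op_le_Op' (q := 3) (p := 2) (by decide) _).trans hO.le))
  have hP := h.syl.quo hN.norm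
  have ho : ∀ K, P ⁒ D ≤ K → K ≤ H ⁒ D → 2 ∣ ♯K → K = H ⁒ D := fun K a b c => by
    by_contra e
    refine h.odd ((quo_le_iff_le_quoPre (h.syl.le.trans hN.norm)).1 a) (quoPre_le_of_le hN b)
      (fun f => e (by rw [← f, quo_quoPre])) ?_
    rw [card_quoPre]
    exact c.mul_left _
  suffices hh : A2 (H ⁒ D) from fun T a b => ab_iff_der.2 (eq_bot_iff.2
    ((inf_eq_bot_of_coprime_card (coprime_of_isPGroup b hπ)).le.trans'
      (le_inf (der_le T) (hh.der_le hN.norm a b))))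
  generalize H ⁒ D = X at *
  generalize P ⁒ D = R at *
  by_cases h0 : X = ⊥
  · exact h0 ▸ a2_of_ab ab_bot
  obtain ⟨Y, hY, hYX⟩ := exists_minNormalBy h0 (le_norm_self X)
  have y2 : 2 ∣ ♯Y := by_contra fun e => hY.ne_bot (eq_bot_iff.2 ((le_Opi ⟨hYX, hY.norm⟩
    ((piGrp_compl_singleton Nat.prime_two).2 e)).trans hO.le))
  have hR := hP.le.trans hY.norm
  have h1 : A2 Y := by
    by_cases y3 : 3 ∣ ♯Y
    · exact a2_of_min hY hYX (hg.mono hYX) y3
    obtain ⟨T, hT, hRT⟩ := exists_invariant_sylow 2 hR (coprime_of_isPGroup hP.isPGroup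
      ((piGrp_compl_singleton Nat.prime_three).2 y3)) (.inl hP.sol)
    have h2 := ho (X ⊓ 𝐍(T)) (le_inf hP.le hRT) inf_le_left ((hT.dvd_card_iff.2 y2).trans
      (card_dvd (le_inf (hT.le.trans hYX) (le_norm_self T))))
    obtain rfl := hY.eq_of_ne_bot hT.le (inf_eq_left.1 h2) (hT.ne_bot y2)
    exact a2_of_ab (abelem_ab (hY.abelem_of_isPGroup hT.isPGroup))
  have h2 := ho (Y ⊔ R) le_sup_right (sup_le hYX hP.le) (y2.trans (card_dvd le_sup_left))
  refine fun T a b => h1 T ((quo_eq_bot_iff (a.trans hY.norm)).1 ?_) b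
  have h3 : T ⁒ Y ≤ R ⁒ Y := by rw [← quo_self_sup hR, h2]; exact quo_mono Y a
  rw [← inf_eq_left.2 h3]
  exact inf_eq_bot_of_coprime_card (coprime_of_isPGroup_ne (isPGroup_quo b Y)
    (isPGroup_quo hP.isPGroup Y) (by decide))

theorem elim : False :=
  h.bad (h.good.mono (le_inf le_rfl (h.a2.zl h.cent_le h.syl).norm))

end MC

theorem main_aux (n : ℕ) : ∀ (X : Type u) [Group X] [Finite X] (K R : Subgroup X), ♯K = n →
    Syl 3 R K → Good (K ⊓ 𝐍(Zc (puig R))) → Good K := by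
  induction n using Nat.strong_induction_on with
  | _ n ih =>
  intro X _ _ K R hn hR hg
  by_contra e
  exact MC.elim ⟨hR, hg, e, fun X' _ _ K' R' h1 => ih _ (hn ▸ h1) X' K' R' rfl⟩

theorem main_sub (hP : Syl 3 P H) (h : Good (H ⊓ 𝐍(Zc (puig P)))) : Good H :=
  main_aux _ G H P rfl hP h

theorem main (hP : Syl 3 P ⊤) (h : Good 𝐍(Zc (puig P))) : Good (⊤ : Subgroup G) :=
  main_sub hP (h.mono inf_le_right)

theorem s3f_of_odd (hP : Syl 3 P ⊤) (h : Odd ♯𝐍(Zc (puig P))) : S3F G :=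
  (main hP (good_of_odd h)).s3f

theorem s3f_sub_of_odd (hP : Syl 3 P H) (h : Odd ♯(H ⊓ 𝐍(Zc (puig P)) : Subgroup G)) : S3F H :=
  (main_sub hP (good_of_odd h)).s3f_sub

end Cfsg.Agent.C3
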