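import Cfsg.Agent.Lib.C3.GK
import Cfsg.Agent.Lib.C3.Main
import Cfsg.Agent.Lib.CY.Inv

/-!
# The almost simple case of the Gruenberg-Kegel theorem
-/

set_option autoImplicit false
set_option linter.unusedSectionVars false

namespace Cfsg.Agent.GK

open Subgroup Cfsg.Agent.S3857 Cfsg.Agent.Coprime Cfsg.Agent.OO Cfsg.Agent.SZ

universe u

variable {X : Type u} [Group X] [Finite X] {A : Set ℕ} {H : Subgroup X} {r : ℕ}

theorem dvd_of_not_mem [H.Normal] (hr : r.Prime) (hH : H.index = r) {c : X} (hc : c ∉ H) :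
    r ∣ orderOf c := by
  have h1 : orderOf (c : X ⧸ H) ∣ r := hH ▸ orderOf_dvd_natCard _
  have h2 := ((Nat.dvd_prime hr).1 h1).resolve_left fun e =>
    hc ((QuotientGroup.eq_one_iff c).1 (orderOf_eq_one_iff.1 e))
  exact h2 ▸ orderOf_map_dvd (QuotientGroup.mk' H) c

theorem index_subgroupOf [H.Normal] {L S : Subgroup X} (hS : S ≤ H) (h : S ⊔ L = ⊤) :
    (H.subgroupOf L).index = H.index := by
  change H.relIndex L = _
  rw [← relIndex_sup_left, eq_top_iff.2 (h.ge.trans (sup_le_sup_right hS L)), relIndex_top_right]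

theorem good_of_pCore {L : Subgroup X} (h : ¬ 2 ∣ (pCore 2 L).index) : C3.Good L :=
  C3.good_of_closed (T := pCoreOf 2 L) ⟨Core.pCoreOf_le L, Core.le_normalizer_pCoreOf L⟩
    ⟨Core.pCoreOf_le L, Core.isPGroup_pCoreOf L, by
      rwa [relIndex, pCoreOf, subgroupOf, comap_map_eq_self_of_injective L.subtype_injective]⟩

theorem closed_aux (h2 : 2 ∈ A) (hr : r.Prime) (hrA : r ∉ A) (n : ℕ) :
    ∀ (X : Type u) [Group X] [Finite X] (H : Subgroup X) [H.Normal], Nat.card X = n → NoEdge A X →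
      H.index = r → ¬ 2 ∣ (pCore 2 X).index := by
  induction n using Nat.strong_induction_on with
  | _ n ih =>
  intro X _ _ H _ hn hA hH he
  have := Fact.mk Nat.prime_two
  have := Fact.mk Nat.prime_three
  have := Fact.mk hr
  have hin : ∀ x : X, ¬ r ∣ orderOf x → x ∈ H := fun x hx =>
    by_contra fun e => hx (dvd_of_not_mem hr hH e)
  have hr2 : ¬ r ∣ 2 := fun e => hrA (((Nat.prime_dvd_prime_iff_eq hr Nat.prime_two).1 e).symm ▸ h2)
  have hNA := Core.mem_of_dvd_card_piCore (G := X) A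
  by_cases h1 : piCore A X = ⊥
  swap
  · set N := piCore A X with hN
    have hle : N ≤ H := fun x hx => hin x fun e => hrA (hNA r hr (e.trans (N.orderOf_dvd_natCard hx)))
    have hs := QuotientGroup.mk'_surjective N
    have : (H.map (QuotientGroup.mk' N)).Normal := Normal.map ‹_› _ hs
    have h3 := ih _ (hn ▸ Core.card_quotient_lt h1) (X ⧸ N) (H.map (QuotientGroup.mk' N)) rfl
      (hA.quotient N) (by rw [index_map_eq H hs (by rwa [QuotientGroup.ker_mk']), hH])
    rw [le_bot_iff.1 ((Core.pCore_le_piCore h2).trans Core.piCore_quotient_piCore.le),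
      index_bot] at h3
    obtain ⟨t, ht⟩ := exists_prime_orderOf_dvd_card' (G := X) r (hH ▸ H.index_dvd_card)
    have hnil := Transfer.isNilpotent_of_fixedPointFree hr (K := N)
      (le_normalizer_of_normal (mem_top t)) (by rw [← ht, pow_orderOf_eq_one]) fun k hk e =>
        fpf hA.compl (fun p hp hd => not_not.2 (hNA p hp hd)) hr hrA ht.symm.dvd k hk e.symm
    obtain ⟨P, hP⟩ := exists_syl 2 N
    refine Nat.Prime.not_dvd_mul Nat.prime_two hP.2.2 h3 ?_
    rw [← index_eq_card, relIndex_mul_index hP.1]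
    exact he.trans (index_dvd_of_le (Core.le_pCore_of_le_nilpotent_normal hnil hP.2.1 hP.1))
  have he' : 2 ∣ Nat.card X := he.trans (index_dvd_card _)
  by_cases hB : piCore Aᶜ X = ⊥
  swap
  · obtain ⟨t, ht⟩ := exists_prime_orderOf_dvd_card' 2 he'
    refine hrA (index_of_even hA h2 he' hB r hr (hH ▸ index_dvd_of_le fun k hk => ?_))
    obtain ⟨y, -, e⟩ := Frob.exists_conj_of_fpf (le_normalizer_of_normal (mem_top t))
      (fpf hA (Core.mem_of_dvd_card_piCore (G := X) Aᶜ) Nat.prime_two h2 ht.symm.dvd) hk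
    have h3 := hin t (ht ▸ hr2)
    exact (mul_mem_cancel_right h3).1 (e ▸ Normal.conj_mem ‹_› t h3 y)
  have : Nontrivial X := Finite.one_lt_card_iff_nontrivial.1 (Nat.le_of_dvd Nat.card_pos he')
  obtain ⟨S, hS⟩ := Core.exists_isMinNormal (G := X)
  have hSn := hS.normal
  obtain ⟨h3, h4⟩ := simple_of hA h1 hB hS
  obtain ⟨z, hz, ho⟩ := Core.exists_mem_orderOf_eq_of_dvd_card (p := 2) (H := S) (by
    by_contra e
    exact h4 (hS.isMulCommutative (Feit_Thompson (Nat.odd_iff.2 (by omega)))))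
  have z1 : z ≠ 1 := fun e => by simp [e] at ho
  have hle : S ≤ H := hS.le_of_inf_ne_bot fun e => z1 (mem_bot.1 (e ▸ ⟨hz, hin z (ho ▸ hr2)⟩))
  have h5 : C3.Good S := by
    by_cases h6 : 3 ∣ ♯S
    swap
    · exact C3.good_of_not_dvd h6
    obtain ⟨P, hP⟩ := exists_syl 3 S
    have hZ : Zc (puig P) ≠ ⊥ := fun e => hP.2.2 (by
      rwa [trivg_center_Puig_pgroup hP.2.1 e, relIndex_bot_left])
    have hL : 𝐍(Zc (puig P)) ≠ ⊤ := fun e => by
      have : (Zc (puig P)).Normal := normalizer_eq_top_iff.1 e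
      have h7 : Zc (puig P) ≤ pCore 3 X :=
        Core.le_pCore (hP.2.1.to_le ((Zc_le _).trans (puig_le P)))
      by_cases h8 : 3 ∈ A
      · exact hZ (le_bot_iff.1 (h7.trans (h1 ▸ Core.pCore_le_piCore h8)))
      · exact hZ (le_bot_iff.1 (h7.trans (hB ▸ Core.pCore_le_piCore (π := Aᶜ) h8)))
    have h9 : S ⊔ 𝐍(Zc (puig P)) = ⊤ := eq_top_iff.2
      ((hP.frattini_argument le_top le_normalizer_of_normal).ge.trans
        (sup_le_sup_left (inf_le_right.trans (norm_le_norm_center_puig P)) S))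
    exact C3.main_sub hP ((good_of_pCore (ih _ (hn ▸ Core.card_lt_of_ne_top hL) _
      (H.subgroupOf 𝐍(Zc (puig P))) rfl (hA.subgroup _)
      ((index_subgroupOf hle h9).trans hH))).mono inf_le_right)
  obtain ⟨g, hg⟩ : ∃ g, g ∉ H := by
    by_contra! e
    exact hr.ne_one (hH ▸ index_eq_one.2 (eq_top_iff.2 fun g _ => e g))
  obtain ⟨s, hs, c, hc, rfl⟩ := CY.exists_mul_cent h3 h4 h5.s3f_sub hz z1
    (by rw [← pow_two, ← ho, pow_orderOf_eq_one]) (g := g) (le_normalizer_of_normal (mem_top g))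
  exact not_comm hA Nat.prime_two hr h2 hrA ho.symm.dvd
    (dvd_of_not_mem hr hH fun e => hg (mul_mem (hle hs) e))
    (mem_centralizer_singleton_iff.1 hc).symm

theorem gapQ : Gap.{u} := by
  intro X _ _ A S _ h1 h2 hA h3 r hr hd
  by_contra hrA
  have := Fact.mk hr
  have := Fact.mk Nat.prime_two
  obtain ⟨g, hg⟩ := exists_prime_orderOf_dvd_card' (G := X ⧸ S) r hd
  set K := (zpowers g).comap (QuotientGroup.mk' S) with hK
  have hle : S ≤ K := Core.le_comap_mk S _
  have h4 := closed_aux h3 hr hrA _ K (S.subgroupOf K) rfl (hA.subgroup K) (by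
    change S.relIndex K = _
    rw [← Core.card_map_mk_eq_relIndex, hK,
      map_comap_eq_self_of_surjective (QuotientGroup.mk'_surjective S), Nat.card_zpowers, hg])
  set T := (pCore 2 K).comap (inclusion hle) with hT
  have h5 : ¬ 2 ∣ T.index := fun e => h4 (e.trans (by
    rw [hT, index_comap]
    exact relIndex_dvd_index_of_normal _ _))
  refine h2 (IsSimpleGroup.comm_iff_isSolvable.2 ?_ |> fun e => ⟨⟨e⟩⟩)
  rcases (Normal.comap inferInstance _ : T.Normal).eq_bot_or_eq_top with e | e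
  · exact Feit_Thompson (Nat.odd_iff.2 (by rw [hT, e, index_bot] at h5; omega))
  · have h6 : IsPGroup 2 T :=
      (Core.isPGroup_pCore (p := 2) (G := K)).comap_of_injective _ (inclusion_injective hle)
    rw [hT, e] at h6
    have := (h6.of_equiv topEquiv).isNilpotent
    infer_instance

end Cfsg.Agent.GK
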