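import Cfsg.Agent.Lib.R4.S3C
import Cfsg.Agent.Lib.R4.Fin45
import Cfsg.Agent.Lib.SZ.S3F
import Cfsg.Agent.Lib.OO.BGAB
import Cfsg.Agent.Lib.Coprime.InvNilpMax
import Cfsg.Agent.Lib.Coprime.FTFinal

/-!
# Coprime action, all invariant proper subgroups of order divisible by `p` nilpotent
-/

set_option autoImplicit false
set_option linter.unusedSectionVars false

namespace Cfsg.Agent.C3

open Subgroup Cfsg.Agent.Coprime Cfsg.Agent.OO Cfsg.Agent.GW Cfsg.Agent.SZ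
open scoped Pointwise commutatorElement

universe u v

/-- the consequence of the theorem on odd `3`-fusion that is needed -/
def Odd3 : Prop := ∀ (G : Type u) [Group G] [Finite G] (P : Subgroup G), Syl 3 P ⊤ →
  Odd ♯𝐍(Zc (puig P)) → S3F G

section

variable {G : Type u} [Group G] [Finite G]

/-- a simple `S₃`-free direct factor gives an element of odd order normalizing a Sylow
`2`-subgroup -/
theorem exists_odd_norm {S T : Subgroup G} (h3 : S3F G) (hS : IsMinNormalBy S ⊤) (ha : ¬ Ab S)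
    (hC : ⊤ ≤ S ⊔ 𝐂(S)) (hT : Syl 2 T ⊤) : ∃ r : ℕ, r.Prime ∧ r ≠ 2 ∧ r ∣ ♯𝐍(T) := by
  have := Fact.mk Nat.prime_two
  have hs : Smp S := fun N hN => hS.eq_bot_or_eq hN.le
    (hC.trans (sup_le hN.norm ((cent_anti hN.le).trans (cent_le_norm N))))
  have := hs.isSimpleGroup hS.ne_bot
  have hZ : S ⊓ 𝐂(S) = ⊥ := (hS.eq_bot_or_eq (Zc_le S) (hS.norm.trans (norm_le_norm_Zc S))).resolve_right
    fun e => ha (Zc_eq_self_iff.1 e)
  have h1 : Syl 2 (T ⊓ S) S := hT.inf_normal ⟨le_top, hS.norm⟩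
  obtain ⟨W, k, hf⟩ := R4.s3c.sf ha (h3.sub S) (Wal.syl_subgroupOf h1)
  have h2 := hf.k_norm
  rw [← subgroupOf_normalizer_eq h1.le] at h2
  have h4 : (k : G) ∈ 𝐍(T) := mem_norm_of_conj_le fun _ hx => by
    obtain ⟨t, ht, rfl⟩ := mem_conj_iff_exists.1 hx
    obtain ⟨s, hs', c, hc, rfl⟩ := (mem_sup_norm_left (cent_le_norm S)).1 (hC (mem_top t))
    have h5 : s * c = c * s := mem_cent_iff.1 hc s hs'
    obtain ⟨n, hn⟩ := hT.isPGroup ⟨_, ht⟩
    have h6 : s ^ 2 ^ n * c ^ 2 ^ n = 1 := by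
      rw [← Commute.mul_pow h5]; exact congrArg Subtype.val hn
    have h7 : s ^ 2 ^ n = 1 := mem_bot.1 (hZ.le ⟨pow_mem hs' _, by
      rw [eq_inv_of_mul_eq_one_left h6]; exact (𝐂(S)).inv_mem ((𝐂(S)).pow_mem hc _)⟩)
    have h8 : s ∈ 𝐍(T ⊓ S) := by
      have h9 : s * c ∈ 𝐍(T ⊓ S) := le_norm_inf (le_norm_self T) (le_top.trans hS.norm) ht
      exact (mul_mem_cancel_right ((cent_anti inf_le_right).trans (cent_le_norm _) hc)).1 h9
    have h9 : s ∈ T ⊓ S := h1.le_of_norm (zpowers_le.2 hs')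
      (Core.isPGroup_zpowers_of_pow_eq_one h7) (.inr (zpowers_le.2 h8)) (mem_zpowers s)
    have h10 : (k : G) * c = c * k := mem_cent_iff.1 hc k k.2
    rw [show (k : G) * (s * c) * (k : G)⁻¹ = k * s * (k : G)⁻¹ * c by
      calc _ = k * s * (k : G)⁻¹ * (k * c) * (k : G)⁻¹ := by group
        _ = _ := by rw [h10]; group]
    exact T.mul_mem (conj_mem_of_norm h2 h9).1 ((T.mul_mem_cancel_left h9.1).1 ht)
  have h5 : IsPGroup 2 W := hf.syl.isPGroup.to_le fun w hw => ((hf.mem w).1 hw).1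
  obtain ⟨m, hm⟩ := IsPGroup.iff_card.1 h5
  have h6 := hf.ord
  have h7 := hf.four
  obtain ⟨r, hr, h8⟩ := Nat.exists_prime_and_dvd (n := orderOf k) (by omega)
  refine ⟨r, hr, ?_, (h8.trans (Subgroup.orderOf_coe k).symm.dvd).trans (orderOf_dvd_card h4)⟩
  rintro rfl
  have h9 : 2 ∣ ♯W := by
    rw [hm] at h7 ⊢
    exact dvd_pow_self 2 (by rintro rfl; omega)
  omega

variable {A : Type v} [Group A] [Finite A] {φ : A →* MulAut G}

theorem exists_inv_syl (hc : (Nat.card A).Coprime (Nat.card G)) (q : ℕ) [Fact q.Prime] :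
    ∃ Q, Syl q Q ⊤ ∧ Inv φ Q := by
  obtain ⟨Q, h1, h2, -⟩ := ft.exists_inv_sylow (φ := φ) q inv_top inv_bot bot_le
    (by rwa [card_top]) (by simp)
  exact ⟨Q, h1, h2⟩

theorem Inv.zp {P : Subgroup G} (h : Inv φ P) : Inv φ (Zc (puig P)) :=
  inv_of_map_eq fun a => by
    rw [map_Zc (φ a).injective, map_puig _ (φ a).injective.injOn, h.map_eq]

/-- the case without invariant normal subgroups -/
theorem sol_of_simple (c3 : Odd3.{u}) (hc : (Nat.card A).Coprime (Nat.card G)) {p : ℕ}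
    [hp : Fact p.Prime] (hd : p ∣ Nat.card G)
    (h : ∀ H : Subgroup G, H ≠ ⊤ → Inv φ H → p ∣ ♯H → Nil H)
    (hs : ∀ N : Subgroup G, N.Normal → Inv φ N → N = ⊥ ∨ N = ⊤) : Group.IsSolvable G := by
  have := Fact.mk Nat.prime_two
  have := Fact.mk Nat.prime_three
  by_contra h0
  have h1 : ∀ (q : ℕ) [Fact q.Prime] (X : Subgroup G), IsPGroup q X → X ≠ ⊤ := fun q _ X e e' =>
    h0 (Core.isSolvable_top_iff.1 (e' ▸ sol_of_isPGroup e))
  have h2 : ∀ X : Subgroup G, X ≠ ⊥ → X ≠ ⊤ → Inv φ X → 𝐍(X) ≠ ⊤ := fun X e1 e2 e3 e4 =>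
    (hs X (normalizer_eq_top_iff.1 e4) e3).elim e1 e2
  have hL : ∀ H : Subgroup G, H ≠ ⊤ → Inv φ H → p ∣ ♯H → ∀ r : ℕ, r.Prime → r ≠ 2 →
      ¬ r ∣ ♯H := fun H e1 e2 e3 r hr r2 e4 => by
    have := Fact.mk hr
    obtain ⟨M, hHM, ⟨m1, m2⟩, hM⟩ := Core.exists_maximal_ge
      (P := fun K : Subgroup G => K ≠ ⊤ ∧ Inv φ K) ⟨e1, e2⟩
    obtain ⟨R, hR⟩ := Transfer.exists_isSylowIn (p := r) M
    have h3 := Transfer.hasNormalPComplement_iff_not_dvd_pResidual.1
      (hasNormalPComplement_of_inv_of_odd r2 m2 (h M m1 m2 (e3.trans (card_dvd hHM)))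
        (fun X x1 x2 x3 x4 => hM _ ⟨h2 X x2 (fun e => m1 (top_le_iff.1 (e ▸ x1))) x3,
          x3.normalizer⟩ x4) hR (hR.ne_bot (e4.trans (card_dvd hHM))))
    rcases hs (pResidual r G) inferInstance (inv_of_characteristic _) with e | e
    · exact h0 (isSolvable_of_isPGroup (Transfer.isPGroup_iff_pResidual_eq_bot.2 e))
    · rw [e, card_top] at h3
      exact h3 (e4.trans (card_subgroup_dvd_card H))
  obtain ⟨T, hT, hTi⟩ := exists_inv_syl (φ := φ) hc p
  have t1 := h1 p T hT.isPGroup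
  have t2 : p ∣ ♯T := hT.dvd_card_iff.2 (by rwa [card_top])
  obtain rfl : p = 2 := by_contra fun e => hL T t1 hTi t2 p hp.out e t2
  have h3 : S3F G := by
    by_cases e : 3 ∣ Nat.card G
    swap
    · exact s3f_of_not_dvd e
    obtain ⟨P, hP, hPi⟩ := exists_inv_syl (φ := φ) hc 3
    have p1 : 3 ∣ ♯P := hP.dvd_card_iff.2 (by rwa [card_top])
    refine c3 G P hP (Nat.not_even_iff_odd.1 fun e' => hL _ (h2 _
      (fun e'' => hP.ne_bot (by rwa [card_top]) (trivg_center_Puig_pgroup hP.isPGroup e''))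
      (h1 3 _ (hP.isPGroup.to_le ((Zc_le _).trans (puig_le P)))) (Inv.zp hPi))
      (Inv.zp hPi).normalizer e'.two_dvd 3 Nat.prime_three (by omega)
      (p1.trans (card_dvd ((le_norm_self P).trans (norm_le_norm_center_puig P)))))
  have t0 : T ≠ ⊥ := hT.ne_bot (by rwa [card_top])
  obtain ⟨S, hS, -⟩ := exists_minNormalBy (H := (⊤ : Subgroup G)) (M := ⊤)
    (fun e => t0 (eq_bot_iff.2 (le_top.trans e.le))) (le_norm_self _)
  have hn : ∀ a, (S.map (φ a).toMonoidHom).Normal := fun a =>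
    (normalizer_eq_top_iff.1 (top_le_iff.1 hS.norm)).map _ (φ a).surjective
  have hC : ⊤ ≤ S ⊔ 𝐂(S) := by
    have h4 : Inv φ (⨆ a, S.map (φ a).toMonoidHom) := fun b x hx => by
      refine iSup_induction (C := fun x => φ b x ∈ ⨆ a, S.map (φ a).toMonoidHom) _ hx ?_
        (by simp) fun x y e1 e2 => by rw [map_mul]; exact mul_mem e1 e2
      rintro a _ ⟨y, hy, rfl⟩
      exact mem_iSup_of_mem (b * a) ⟨y, hy, by simp⟩
    have h5 : S ≤ ⨆ a, S.map (φ a).toMonoidHom := fun y hy => mem_iSup_of_mem 1 ⟨y, hy, by simp⟩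
    rcases hs _ (iSup_normal _) h4 with e | e
    · exact absurd (eq_bot_iff.2 (h5.trans e.le)) hS.ne_bot
    refine e ▸ iSup_le fun a => ?_
    have h6 : ⊤ ≤ 𝐍(S.map (φ a).toMonoidHom) := (normalizer_eq_top_iff.2 (hn a)).ge
    rcases hS.inf_eq_bot_or_le h6 with e | e
    · exact (le_cent_of_inf_eq_bot (le_top.trans hS.norm) (le_top.trans h6)
        (inf_comm S _ ▸ e)).trans le_sup_right
    · exact (eq_of_le_of_card_le e (card_map_of_injective (φ a).injective).le).ge.trans le_sup_left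
  have ha : ¬ Ab S := fun e => by
    have h4 : S ≤ center G := by
      rw [← centralizer_univ, ← coe_top]
      exact le_cent_comm.1 (hC.trans (sup_le (ab_iff_le_cent.1 e) le_rfl))
    rcases hs (center G) inferInstance (inv_of_characteristic _) with e | e
    · exact hS.ne_bot (eq_bot_iff.2 (h4.trans e.le))
    · exact h0 (Core.isSolvable_top_iff.1 (e ▸ sol_of_ab inferInstance))
  obtain ⟨r, hr, r2, h4⟩ := exists_odd_norm h3 hS ha hC hT
  exact hL _ (h2 T t0 t1 hTi) hTi.normalizer (t2.trans (card_dvd (le_norm_self T))) r hr r2 h4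

end

theorem sol_aux (c3 : Odd3.{u}) {A : Type v} [Group A] [Finite A] (G : Type u) [Group G]
    [Finite G] : ∀ (φ : A →* MulAut G) (p : ℕ), p.Prime → (Nat.card A).Coprime (Nat.card G) →
      p ∣ Nat.card G → (∀ H : Subgroup G, H ≠ ⊤ → Inv φ H → p ∣ ♯H → Nil H) →
      Group.IsSolvable G := by
  refine Core.induction_on_card (P := fun G _ _ => ∀ (φ : A →* MulAut G) (p : ℕ), p.Prime →
    (Nat.card A).Coprime (Nat.card G) → p ∣ Nat.card G →
    (∀ H : Subgroup G, H ≠ ⊤ → Inv φ H → p ∣ ♯H → Nil H) → Group.IsSolvable G) ?_ G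
  intro G _ _ ih φ p hp hc hd h
  have := Fact.mk hp
  have h1 : ∀ N : Subgroup G, N.Normal → N ≠ ⊥ → Inv φ N → Sol N → Group.IsSolvable G := by
    intro N hN n0 ni ns
    refine (Group.isSolvable_iff_subgroup_quotient N).2 ⟨ns, ?_⟩
    rcases subsingleton_or_nontrivial (G ⧸ N) with _ | _
    · infer_instance
    have hs := QuotientGroup.mk'_surjective N
    obtain ⟨q, hq, q1, q2⟩ : ∃ q : ℕ, q.Prime ∧ q ∣ Nat.card (G ⧸ N) ∧ ∀ H : Subgroup (G ⧸ N),
        q ∣ ♯H → p ∣ ♯(H.comap (QuotientGroup.mk' N)) := by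
      by_cases e : p ∣ Nat.card (G ⧸ N)
      · refine ⟨p, hp, e, fun H e' => e'.trans ?_⟩
        conv_lhs => rw [← map_comap_eq_self_of_surjective hs H]
        exact card_map_dvd _ _
      · obtain ⟨q, hq, q1⟩ := Nat.exists_prime_and_dvd (Finite.one_lt_card (α := G ⧸ N)).ne'
        rw [card_eq_card_quotient_mul_card_subgroup N] at hd
        refine ⟨q, hq, q1, fun H _ => ((hp.dvd_mul.1 hd).resolve_left e).trans (card_dvd ?_)⟩
        exact (QuotientGroup.ker_mk' N).ge.trans (ker_le_comap _ _)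
    refine ih (G ⧸ N) (Core.card_quotient_lt n0) (quotAutHom φ N ni) q hq
      (Nat.Coprime.coprime_dvd_right (card_quotient_dvd_card N) hc) q1 fun H e1 e2 e3 => ?_
    rw [← map_comap_eq_self_of_surjective hs H]
    exact Core.isNilpotent_map (h _ (fun e => e1 (by
      rw [← map_comap_eq_self_of_surjective hs H, e, map_top_of_surjective _ hs]))
      (ni.comap_mk e2) (q2 H e3)) _
  by_contra h0
  refine h0 (sol_of_simple c3 hc hd h fun N hN ni => ?_)
  by_contra hne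
  obtain ⟨n0, n1⟩ := not_or.1 hne
  have n2 : ¬ p ∣ ♯N := fun e => h0 (h1 N hN n0 ni (sol_of_nil (h N n1 ni e)))
  obtain ⟨P, hP, hPi⟩ := exists_inv_syl (φ := φ) hc p
  have p1 : p ∣ ♯P := hP.dvd_card_iff.2 (by rwa [card_top])
  have h2 : N ⊔ P = ⊤ := by_contra fun e => h0 (h1 N hN n0 ni (sol_of_nil (nil_of_le
    (h _ e (ni.sup hPi) (p1.trans (card_dvd le_sup_right))) le_sup_left)))
  have h3 : (♯P).Coprime ♯N := by
    obtain ⟨k, hk⟩ := IsPGroup.iff_card.1 hP.isPGroup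
    rw [hk]
    exact Nat.Coprime.pow_left _ ((Nat.Prime.coprime_iff_not_dvd hp).2 n2)
  have h4 : N ≤ 𝐂(P) := le_of_forall_syl fun q hq _ => by
    have := Fact.mk hq
    obtain ⟨Q, hQ, hQi, h5⟩ := ft.exists_inv_sylow q ni hPi le_normalizer_of_normal
      (Nat.Coprime.coprime_dvd_right (card_subgroup_dvd_card N) hc) h3
    refine ⟨Q, hQ, le_cent_of_nil_of_coprime (h _ (fun e => h0 ?_) (hPi.sup hQi)
      (p1.trans (card_dvd le_sup_left))) le_sup_right le_sup_left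
      (Nat.Coprime.coprime_dvd_left (card_dvd hQ.1) h3.symm)⟩
    rw [← Core.isSolvable_top_iff, ← e]
    exact Core.isSolvable_sup_of_le_normalizer h5 (sol_of_isPGroup hP.isPGroup)
      (sol_of_isPGroup hQ.2.1)
  exact h0 (h1 P (normalizer_eq_top_iff.1 (top_le_iff.1 (h2 ▸ sup_le (h4.trans (cent_le_norm P))
    (le_norm_self P)))) (hP.ne_bot (by rwa [card_top])) hPi (sol_of_isPGroup hP.isPGroup))

theorem fin4241 (c3 : Odd3.{u}) {A : Type v} {G : Type u} [Group A] [Group G] [Finite A]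
    [Finite G] (φ : A →* MulAut G) (hc : (Nat.card A).Coprime (Nat.card G)) {p : ℕ} (hp : p.Prime)
    (hd : p ∣ Nat.card G) (h : ∀ H : Subgroup G, H ≠ ⊤ → Inv φ H →
      (∀ K : Subgroup G, H < K → Inv φ K → K = ⊤) → p ∣ ♯H → Nil H) : Group.IsSolvable G := by
  refine sol_aux c3 G φ p hp hc hd fun H h1 h2 h3 => ?_
  obtain ⟨M, hHM, ⟨m1, m2⟩, hM⟩ := Core.exists_maximal_ge
    (P := fun K : Subgroup G => K ≠ ⊤ ∧ Inv φ K) ⟨h1, h2⟩
  refine nil_of_le (h M m1 m2 (fun K hK hKi => ?_) (h3.trans (card_dvd hHM))) hHM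
  by_contra hne
  exact hK.ne' (hM K ⟨hne, hKi⟩ hK.le)

end Cfsg.Agent.C3
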